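import Cfsg.Agent.MK.Steps
import Cfsg.Agent.MK.All
import Cfsg.Agent.MK.R.Main
import Cfsg.Agent.MK.G.Cover
import Cfsg.Agent.MK.GA.Psl
import Cfsg.Agent.MK.GX.Psu
import Cfsg.Agent.MK.GX.Rows
import Cfsg.Agent.MK.GO.Rows
import Cfsg.Agent.MK.L.Ree
import Cfsg.Agent.MK.S.Tits
import Cfsg.Agent.MK.S.Row
import Cfsg.Agent.MK.Two.Row
import Cfsg.Agent.MK.P.Row

/-!
# MK: the assembly; `Left` lists what the remaining boxes deliver (helper17)
-/

set_option autoImplicit false

namespace Cfsg.Agent.MK.Fin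

open Cfsg Cfsg.Agent.ODD

/-- the boxes which enter the last file -/
structure Left : Prop where
  sp2 : ∀ (F : Type) [Field F] [Fintype F] [CharP F 2] (m : ℕ), 3 ≤ m → Fintype.card F = 2 → Two.GdI (PSp m F)
  u43 : ∀ (F : Type) [Field F] [Fintype F], Fintype.card F = 9 → S.SmC (PSU 4 F 3)
  g23 : ∀ (F : Type) [Field F] [Fintype F], Fintype.card F = 3 → S.SmC ↥(Lie.chevG2.group F)
  o73 : ∀ (F : Type) [Field F] [Fintype F], Fintype.card F = 3 → S.SmC (POmega F (quadFormOdd 3 F))
  spor : S.SporIn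

theorem box_of (h : Left) : Box where
  alt := GA.row_alt steps
  two := Two.row_two_of_sp2 h.sp2
  psl := GA.row_psl steps
  psu := GX.row_psu (G.mainC steps) steps.sm h.u43
  psp := P.row_psp steps
  podd := GO.row_podd (G.mainC steps) steps.sm h.o73
  plus := GO.row_plus (G.mainC steps)
  minus := GO.row_minus (G.mainC steps)
  g2 := GX.row_g2 (G.mainC steps) steps.sm h.g23
  f4 := GX.row_f4 (G.mainC steps)
  e6 := GX.row_e6 (G.mainC steps)
  e7 := GX.row_e7 (G.mainC steps)
  e8 := GX.row_e8 (G.mainC steps)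
  tw := GX.row_tw (G.mainC steps)
  d4 := GX.row_d4 (G.mainC steps)
  ree := L.row_ree steps
  tits := S.row_tits steps.sm
  spor := S.row_spor steps.sm h.spor

theorem ih_of (h : Left) : ∀ n, IH n := R.red (H.stepF (allGd_of (box_of h)))

end Cfsg.Agent.MK.Fin
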