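import Cfsg.Agent.MK.Fin.Asm
import Cfsg.Agent.MK.Sp2.Row
import Cfsg.Agent.MK.S.Spor1
import Cfsg.Agent.MK.S6.F223

/-!
# MK: the assembly from the four exceptional triple covers (helper17)
-/

set_option autoImplicit false

namespace Cfsg.Agent.MK.Fin

open Cfsg

theorem left_of (u43 : ∀ (F : Type) [Field F] [Fintype F], Fintype.card F = 9 → S.SmC (PSU 4 F 3))
    (g23 : ∀ (F : Type) [Field F] [Fintype F], Fintype.card F = 3 → S.SmC ↥(Lie.chevG2.group F))
    (o73 : ∀ (F : Type) [Field F] [Fintype F], Fintype.card F = 3 → S.SmC (POmega F (quadFormOdd 3 F)))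
    (suz3 : S.SmC Spor.Suz) : Left where
  sp2 := Sp2.sp2_of Sp2.k0_box
  u43 := u43
  g23 := g23
  o73 := o73
  spor := S.spor_of suz3 S6.fi223

end Cfsg.Agent.MK.Fin
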