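import Cfsg.Agent.MK.Fin.Asm2
import Cfsg.Agent.MK.C3L.G23
import Cfsg.Agent.MK.C3L.OGS
import Cfsg.Agent.MK.S4.ZM
import Cfsg.Agent.MK.U43.Asm
import Cfsg.Agent.MK.U43.B22

/-!
# MK: the assembly from the last count for `U₄(3)` (helper17)
-/

set_option autoImplicit false

namespace Cfsg.Agent.MK.Fin

open Cfsg

theorem left_of_h1 (h1 : U43.H1) : Left :=
  left_of (fun F _ _ hF => U43.smC_of h1 (U43.h22_of h1) F hF) C3L.g23 C3L.O.o73 S4.suz3

end Cfsg.Agent.MK.Fin
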